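import Cfsg.Agent.SchurBound.BitMatrix

set_option autoImplicit false
set_option maxRecDepth 20000

/-!
Codes of matrices of degree 52 over two elements, with the constants written out.
-/

namespace Cfsg.Agent.SchurBound

open Cfsg.Agent.SchurCert

/-- The code of the identity. -/
def one52 : ℕ := 0x8000000000000400000000000020000000000001000000000000080000000000004000000000000200000000000010000000000000800000000000040000000000002000000000000100000000000008000000000000400000000000020000000000001000000000000080000000000004000000000000200000000000010000000000000800000000000040000000000002000000000000100000000000008000000000000400000000000020000000000001000000000000080000000000004000000000000200000000000010000000000000800000000000040000000000002000000000000100000000000008000000000000400000000000020000000000001000000000000080000000000004000000000000200000000000010000000000000800000000000040000000000002000000000000100000000000008000000000000400000000000020000000000001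

theorem oneB_fiftytwo : oneB 52 = one52 := by decide +kernel

/-- One bit at the bottom of each column. -/
def ones52 : ℕ := 0x1000000000000100000000000010000000000001000000000000100000000000010000000000001000000000000100000000000010000000000001000000000000100000000000010000000000001000000000000100000000000010000000000001000000000000100000000000010000000000001000000000000100000000000010000000000001000000000000100000000000010000000000001000000000000100000000000010000000000001000000000000100000000000010000000000001000000000000100000000000010000000000001000000000000100000000000010000000000001000000000000100000000000010000000000001000000000000100000000000010000000000001000000000000100000000000010000000000001000000000000100000000000010000000000001000000000000100000000000010000000000001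

theorem onesB_fiftytwo : onesB 52 52 = ones52 := by decide +kernel

/-- The product, one step for each column of the first factor. -/
def mulAux52 (q r : ℕ) : ℕ → ℕ :=
  Nat.rec 0 fun i ih => Nat.xor ih (Nat.mul
    (Nat.land (Nat.shiftRight q (Nat.mul 52 i)) 0xfffffffffffff)
    (Nat.land (Nat.shiftRight r i) ones52))

/-- The product of codes. -/
def mul52 (q r : ℕ) : ℕ := mulAux52 q r 52

theorem mulAux52_eq (q r : ℕ) : ∀ k, mulAux52 q r k = mulBAux 52 q r k
  | 0 => rfl
  | k + 1 => by
    show Nat.xor (mulAux52 q r k) _ = Nat.xor (mulBAux 52 q r k) _
    rw [mulAux52_eq q r k, ← onesB_fiftytwo, show (0xfffffffffffff : ℕ) = Nat.sub (Nat.pow 2 52) 1 by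
      decide +kernel]

theorem mul52_eq (q r : ℕ) : mul52 q r = mulB 52 q r := mulAux52_eq q r 52

/-- The code of a group embedded in matrices of degree 52 over two elements. -/
def bit52Code {G : Type*} [Group G] (f : G →* Matrix (Fin 52) (Fin 52) (ZMod 2))
    (hf : Function.Injective f) : Code G where
  mul := mul52
  one := one52
  enc := fun g => encB 52 (f g)
  enc_one := by rw [map_one, encB_one, oneB_fiftytwo]
  enc_mul := fun a b => by rw [map_mul, encB_mul, mul52_eq]
  enc_inj := fun _ _ h => hf (encB_injective h)

end Cfsg.Agent.SchurBound
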