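import Cfsg.Agent.SchurBound.Bound
import Cfsg.Agent.SchurBound.CoresCert

set_option autoImplicit false
set_option maxRecDepth 40000

/-!
Certificates bounding the multiplier of PSL(3, 4).
-/

namespace Cfsg.Agent.SchurBound

open Cfsg.Agent.SchurCert

/-- Generators with their inverses. -/
def m21TwoRankGens : List (ℕ × ℕ) :=
     [(0xb9e9594e2868dec52d30b184471420, 0xb9e9594e2868dec52d30b184471420),
      (0xbae957b6289ba44b1cd0524ac18820, 0xbae957b6289ba44b1cd0524ac18820),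
      (0xb9e086be3593a6952d94b10a618820, 0xb9e086be3593a6952d94b10a618820),
      (0xb9d109ca34789a452cd5b246c2b820, 0xb9d109ca34789a452cd5b246c2b820),
      (0xbb4a23da235d1499c98e79206aa020, 0xbc86e5aa253a2c97b582992a685020),
      (0xba16a70e2714cacad136819a493c20, 0xba16a70e2714cacad136819a493c20)]

/-- Fusing elements with their inverses. -/
def m21TwoRankFus : List (ℕ × ℕ) :=
     [(0xbcdca79495444f6a0db25c18249820, 0xbb20bb21c69d5253d06f68a5151020),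
      (0xbd04e936237da69ac0c5430e452c20, 0xbb9766ce2a7d24610d872a50485420),
      (0xbbe5558c8a9c29129cce432c968820, 0xb968d7d58eb20669c0875257190820),
      (0xb992b9c0ad61d51a4855b39e322020, 0xb9d0b9a99229a0fa36a275a2322420),
      (0xbadf328e32754465592d3928c82020, 0xba9c5a4223abd04b2d223b26693420),
      (0xb95139412e3d0646d4d65b15178820, 0xba14ea4c921c166396357a6cc68820)]

/-- The certificate. -/
def m21TwoRankCert : BCert where
  D :=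
    { P := { p := 2, n := 6, powW := [[], [], [], [], [1, 3], []], cjW := [[], [[0]], [[0], [1]], [[0], [1], [2]], [[0], [0, 1], [1, 2, 3], [0, 3]], [[0], [3], [0, 1, 2, 3], [1], [0, 1, 3, 4]]] }
      gens := m21TwoRankGens.map Prod.fst
      gs := m21TwoRankFus.map Prod.fst
      rows := [
        .assoc 5 5 4,
        .assoc 5 5 3,
        .assoc 5 5 2,
        .assoc 5 4 4,
        .assoc 5 4 3,
        .assoc 5 4 2,
        .assoc 5 4 1,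
        .assoc 5 3 3,
        .assoc 5 2 2,
        .assoc 4 4 4,
        .assoc 4 4 2,
        .fus 0 [[2]] [[0, 1, 2, 3, 4]] [0, 0] [],
        .fus 1 [[3, 5], [2, 4, 5]] [[1, 4], [1, 3, 5]] [1, 1] [],
        .fus 2 [[0, 2, 4]] [[0, 1, 3, 5]] [0, 0] [],
        .fus 3 [[0, 1, 3, 5]] [[1]] [0, 0] [],
        .fus 4 [[0, 1, 2, 3, 4], [0, 1, 2, 4]] [[0, 2, 4, 5], [0, 1, 4, 5]] [1, 0, 1] [0],
        .fus 5 [[1, 2, 3, 4], [5]] [[1, 2, 3, 4, 5], [0, 1, 2, 3, 4, 5]] [1, 0] [0, 1]]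
      beta := [[12], [10], [], [], [], []]
      combo := [[0, 1, 4, 7, 8, 10], [3, 5, 6, 7, 8, 9, 12, 13, 14, 16], [3, 5, 7, 8, 9, 10], [3, 4, 5, 7, 8, 9, 10, 11, 12, 16], [1, 2, 3, 5, 6, 7, 8, 9], [0, 1, 2, 3, 4, 7, 8, 9, 10, 11, 13, 15, 16], [3, 5, 6, 8, 9, 12, 13, 14, 16], [3, 4, 5, 6, 7, 8, 9, 10], [0, 1, 4, 7, 9], [0, 5, 7, 9, 11, 13, 15, 16], [], [0, 3, 6, 8, 9, 10], [], [3, 5, 6, 7, 13, 15, 16], [0, 1, 3, 4, 5], [0, 3, 5, 6, 7, 8, 9, 12, 13, 16], [6, 8, 10], [17], [18], [1, 17], [1, 7, 11, 13, 15, 18]] }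
  q := 2
  scale := 1
  kills := [[10, 17], [10, 12, 18]]

theorem m21TwoRank_check : m21TwoRankCert.check permMulD permOne = true := by decide +kernel

/-- Generators with their inverses. -/
def m21TwoExpGens : List (ℕ × ℕ) :=
     [(0xb9e9594e2868dec52d30b184471420, 0xb9e9594e2868dec52d30b184471420),
      (0xbae957b6289ba44b1cd0524ac18820, 0xbae957b6289ba44b1cd0524ac18820),
      (0xb9e086be3593a6952d94b10a618820, 0xb9e086be3593a6952d94b10a618820),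
      (0xb9d109ca34789a452cd5b246c2b820, 0xb9d109ca34789a452cd5b246c2b820),
      (0xbb4a23da235d1499c98e79206aa020, 0xbc86e5aa253a2c97b582992a685020),
      (0xba16a70e2714cacad136819a493c20, 0xba16a70e2714cacad136819a493c20)]

/-- Fusing elements with their inverses. -/
def m21TwoExpFus : List (ℕ × ℕ) :=
     [(0xb8e45a88d43b2706a1f653a2b49020, 0xba2706d4ac4996e21c6a7c682b4820),
      (0xb944a3c1341924e5b50facd9689820, 0xb90f033472431455d22998ace7d420),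
      (0xbd1b3b2e2f3954c454d28106970820, 0xbcd56a222780eac9348b7a5c628820),
      (0xbac755158f9c614908f64352e21820, 0xba28c7adcd810d1b4ca748a43aa820)]

/-- The certificate. -/
def m21TwoExpCert : BCert where
  D :=
    { P := { p := 2, n := 6, powW := [[], [], [], [], [1, 3], []], cjW := [[], [[0]], [[0], [1]], [[0], [1], [2]], [[0], [0, 1], [1, 2, 3], [0, 3]], [[0], [3], [0, 1, 2, 3], [1], [0, 1, 3, 4]]] }
      gens := m21TwoExpGens.map Prod.fst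
      gs := m21TwoExpFus.map Prod.fst
      rows := [
        .assoc 5 5 4,
        .assoc 5 5 3,
        .assoc 5 5 2,
        .assoc 5 5 0,
        .assoc 5 4 4,
        .assoc 5 4 3,
        .assoc 5 4 2,
        .assoc 5 4 1,
        .assoc 5 3 3,
        .assoc 5 3 2,
        .assoc 5 3 1,
        .assoc 5 3 0,
        .assoc 5 2 2,
        .assoc 4 4 4,
        .assoc 4 4 2,
        .assoc 4 3 3,
        .fus 0 [[1, 2]] [[0, 2, 4]] [0, 0, 0, 0, 0, 0, 0, 0] [],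
        .fus 1 [[2]] [[2, 4]] [0, 0, 0, 0, 0, 0, 0, 0] [],
        .fus 2 [[1, 4]] [[3, 5]] [0, 0, 0, 0, 0, 0, 0, 0] [],
        .fus 3 [[2]] [[0, 1, 3, 5]] [0, 0, 0, 0, 0, 0, 0, 0] []]
      beta := [[12], [10], [], [], [], []]
      combo := [[0, 0, 0, 0, 2, 2, 2, 2, 9, 9, 9, 9, 10, 10, 12, 12, 12, 12, 13, 13, 13, 13, 14, 14, 14, 14], [0, 0, 1, 1, 3, 3, 4, 4, 6, 6, 7, 7, 8, 8, 8, 8, 9, 9, 9, 9, 10, 10, 12, 12, 12, 12, 13, 13, 15, 15, 15, 15, 15, 15, 16, 17, 17, 17, 17, 17, 17, 17], [1, 1, 1, 1, 2, 2, 2, 2, 3, 3, 4, 4, 4, 4, 5, 5, 5, 5, 6, 6, 6, 6, 7, 7, 7, 7, 9, 9, 9, 9, 10, 10], [0, 0, 0, 0, 1, 1, 2, 2, 2, 2, 2, 2, 7, 7, 8, 8, 8, 8, 8, 8, 9, 9, 9, 9, 9, 9, 10, 10, 12, 12, 14, 14, 17, 18, 18, 18, 18, 18, 18, 18, 19, 19, 19, 19, 19, 19, 19], [4, 4, 4, 4, 5, 5, 5, 5, 6, 6, 6, 6, 7, 7, 7, 7, 9, 9, 9, 9, 10, 10, 12, 12, 12, 12], [0, 0, 1, 1, 2, 2, 2, 2, 4, 4, 4, 4, 4, 4,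 6, 6, 7, 7, 9, 9, 9, 9, 12, 12, 12, 12, 13, 13, 14, 14, 14, 14, 15, 15], [0, 0, 1, 1, 1, 1, 1, 1, 2, 2, 2, 2, 3, 3, 4, 4, 5, 5, 5, 5, 6, 6, 7, 7, 8, 8, 8, 8, 12, 12, 12, 12, 13, 13, 13, 13, 13, 13, 15, 15, 15, 15, 15, 15, 16, 17, 17, 17, 17, 17, 17, 17], [1, 1, 1, 1, 2, 2, 2, 2, 3, 3, 4, 4, 4, 4, 6, 6, 6, 6, 9, 9, 9, 9, 10, 10], [0, 0, 0, 0, 2, 2, 2, 2, 3, 3, 7, 7, 7, 7, 9, 9, 9, 9, 10, 10, 12, 12, 12, 12, 14, 14, 14, 14], [0, 0, 1, 1, 1, 1, 1, 1, 4, 4, 5, 5, 5, 5, 6, 6, 6, 6, 6, 6, 7, 7, 9, 9, 9, 9, 13, 13, 15, 15], [], [0, 0, 0, 0, 3, 3, 4, 4, 4, 4, 13, 13, 13, 13], [], [0, 0, 1, 1, 2, 2, 2, 2, 4, 4, 5, 5, 5, 5, 6, 6, 6, 6, 6, 6, 7, 7, 7, 7, 7, 7, 9, 9, 9, 9, 12, 12, 12, 12, 13, 13, 14, 14, 14, 14, 15, 15, 15, 15, 15, 15, 17, 17, 17, 17, 17, 17, 17], [0, 0, 0, 0, 1, 1, 1, 1, 3, 3, 4, 4, 4, 4, 5, 5, 5, 5, 6, 6, 6, 6, 7, 7, 7, 7, 12, 12, 12, 12, 14, 14, 14, 14], [1, 1,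 2, 2, 2, 2, 2, 2, 7, 7, 8, 8, 8, 8, 8, 8, 9, 9, 9, 9, 9, 9, 10, 10, 12, 12, 14, 14, 17, 18, 18, 18, 18, 18, 18, 18], [3, 3], [0, 0, 0, 0, 0, 0, 2, 2, 3, 3, 3, 3, 3, 3, 3, 4, 4, 4, 4, 4, 4, 5, 5, 6, 6, 6, 6, 6, 6, 8, 8, 8, 8, 8, 8, 9, 9, 9, 9, 9, 9, 10, 10, 10, 10, 10, 10, 10, 12, 12, 12, 12, 12, 12, 13, 13, 13, 13, 14, 14, 15, 15, 16, 16, 16, 16, 16, 16, 16], [1, 1, 1, 1, 2, 2, 2, 2, 3, 3, 3, 3, 3, 3, 3, 5, 5, 5, 5, 7, 7, 10, 10, 12, 12, 13, 13, 13, 13, 14, 14, 17, 17, 17, 17, 17, 17, 17], [0, 0, 0, 0, 0, 0, 1, 1, 1, 1, 2, 2, 3, 3, 3, 3, 3, 3, 3, 4, 4, 4, 4, 4, 4, 5, 5, 6, 6, 6, 6, 6, 6, 8, 8, 8, 8, 8, 8, 9, 9, 9, 9, 9, 9, 10, 10, 10, 10, 10, 10, 10, 12, 12, 12, 12, 12, 12, 13, 13, 13, 13, 14, 14, 15, 15, 16, 16, 16, 16, 16, 16, 16], [0, 0, 1, 1, 1, 1, 2, 2, 3, 3, 3, 3, 3, 3, 3, 5, 5, 5, 5, 7, 7, 9, 9, 12, 12, 13, 13, 13, 13, 14, 14, 17, 17, 17, 17, 17, 17, 17]] }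
  q := 8
  scale := 4
  kills := []

theorem m21TwoExp_check : m21TwoExpCert.check permMulD permOne = true := by decide +kernel

/-- Generators with their inverses. -/
def m21ThreeRankGens : List (ℕ × ℕ) :=
     [(0xbd9d48998d4ac93abd471965040820, 0xbd9746166455611725e3448cd38820),
      (0xb89d6642692ad51a9a483b48f1d020, 0xbd1628a592254d3736083a9e51d820)]

/-- Fusing elements with their inverses. -/
def m21ThreeRankFus : List (ℕ × ℕ) :=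
     [(0xb9e23ac9c554c8b634c2a412fb2020, 0xb8e6774aa62454b63ca2b260da2020),
      (0xbb071a244579d56449ae590d0acc20, 0xbb07312a847a1363b64b71606ac420)]

/-- The certificate. -/
def m21ThreeRankCert : BCert where
  D :=
    { P := { p := 3, n := 2, powW := [[], []], cjW := [[], [[0]]] }
      gens := m21ThreeRankGens.map Prod.fst
      gs := m21ThreeRankFus.map Prod.fst
      rows := [
        .fus 0 [[0, 0, 1, 1]] [[0, 1, 1]] [0, 0, 0] [],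
        .fus 1 [[0, 1]] [[0]] [0, 0, 0] []]
      beta := [[], []]
      combo := [[0, 0], [1, 1], [2, 2]] }
  q := 3
  scale := 1
  kills := [[2]]

theorem m21ThreeRank_check : m21ThreeRankCert.check permMulD permOne = true := by decide +kernel

/-- Generators with their inverses. -/
def m21ThreeExpGens : List (ℕ × ℕ) :=
     [(0xbd9d48998d4ac93abd471965040820, 0xbd9746166455611725e3448cd38820),
      (0xb89d6642692ad51a9a483b48f1d020, 0xbd1628a592254d3736083a9e51d820)]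

/-- Fusing elements with their inverses. -/
def m21ThreeExpFus : List (ℕ × ℕ) :=
     [(0xbb071a244579d56449ae590d0acc20, 0xbb07312a847a1363b64b71606ac420),
      (0xbbacb1c0ea48a48a34b163cc49d420, 0xbd44b1b51235947a41ec895249b820),
      (0xbae8e43ced208a3b2a4c8c0c99d420, 0xbac551a4e695208b2893895af63820)]

/-- The certificate. -/
def m21ThreeExpCert : BCert where
  D :=
    { P := { p := 3, n := 2, powW := [[], []], cjW := [[], [[0]]] }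
      gens := m21ThreeExpGens.map Prod.fst
      gs := m21ThreeExpFus.map Prod.fst
      rows := [
        .fus 0 [[0]] [[0, 0, 1, 1]] [0, 0, 0, 0, 0, 0, 0, 0, 0] [],
        .fus 1 [[0, 1, 1]] [[0]] [0, 0, 0, 0, 0, 0, 0, 0, 0] [],
        .fus 2 [[1], [0, 0]] [[0, 0, 1, 1], [0, 0, 1]] [1, 1, 0] [0, 1, 1]]
      beta := [[], []]
      combo := [[0, 0, 0, 0, 1, 1, 1, 1], [1, 1, 1, 1], [2, 2, 2, 2, 2, 2, 2, 2]] }
  q := 9
  scale := 3
  kills := []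

theorem m21ThreeExp_check : m21ThreeExpCert.check permMulD permOne = true := by decide +kernel

end Cfsg.Agent.SchurBound
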