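import Cfsg.Agent.SchurBound.M21Cores

set_option autoImplicit false
set_option maxRecDepth 40000

/-!
The checks of the data for central extensions of PSL(3, 4).
-/

namespace Cfsg.Agent.SchurBound

open Cfsg.Agent.SchurCert

theorem m21CoresTwo_reps : m21CoresTwoCert.repsOK permMulD permOne = true := by decide +kernel

theorem m21CoresTwo_ranks : m21CoresTwoCert.rankOK = true := by decide +kernel

theorem m21CoresTwo_keys : m21CoresTwoCert.keysOK (pairKey m21CoresTwoPairs) = true := by decide +kernel

theorem m21CoresTwo_sub : m21CoresTwoCert.subOK permMulD permOne = true := by decide +kernel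

theorem m21CoresTwo_tbl : m21CoresTwoCert.tblOK = true := by decide +kernel

theorem m21CoresTwo_coc : m21CoresTwoCert.cocOK = true := by decide +kernel

theorem m21CoresTwo_tabx : m21CoresTwoCert.tabOK permMulD m21CoresTwoCert.x m21CoresTwoCert.px m21CoresTwoCert.ux = true := by decide +kernel

theorem m21CoresTwo_taby : m21CoresTwoCert.tabOK permMulD m21CoresTwoCert.y m21CoresTwoCert.py m21CoresTwoCert.uy = true := by decide +kernel

theorem m21CoresTwo_value : m21CoresTwoCert.valOK permMulD = true := by decide +kernel

theorem m21CoresTwoSnd_coc : m21CoresTwoSnd.cocOK = true := by decide +kernel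

theorem m21CoresTwoSnd_tabx : m21CoresTwoCert.tabOK permMulD m21CoresTwoSnd.x m21CoresTwoSnd.px m21CoresTwoSnd.ux = true := by decide +kernel

theorem m21CoresTwoSnd_taby : m21CoresTwoCert.tabOK permMulD m21CoresTwoSnd.y m21CoresTwoSnd.py m21CoresTwoSnd.uy = true := by decide +kernel

theorem m21CoresTwoSnd_value : m21CoresTwoSnd.valOK permMulD = true := by decide +kernel

theorem m21CoresTwoSnd_zero : (LCert.zeroOK { m21CoresTwoCert with f := m21CoresTwoSnd.f } permMulD) = true := by decide +kernel

theorem m21CoresTwoSnd_zero_fst : (LCert.zeroOK { m21CoresTwoSnd with f := m21CoresTwoCert.f } permMulD) = true := by decide +kernel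

theorem m21CoresTwo_checked : m21CoresTwoCert.Checked permMulD permOne (pairKey m21CoresTwoPairs) :=
  ⟨m21CoresTwo_reps, m21CoresTwo_ranks, m21CoresTwo_keys, m21CoresTwo_sub, m21CoresTwo_tbl, m21CoresTwo_coc, m21CoresTwo_tabx, m21CoresTwo_taby, m21CoresTwo_value⟩

theorem m21CoresThree_reps : m21CoresThreeCert.repsOK permMulD permOne = true := by decide +kernel

theorem m21CoresThree_ranks : m21CoresThreeCert.rankOK = true := by decide +kernel

theorem m21CoresThree_keys : m21CoresThreeCert.keysOK (pairKey m21CoresThreePairs) = true := by decide +kernel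

theorem m21CoresThree_sub : m21CoresThreeCert.subOK permMulD permOne = true := by decide +kernel

theorem m21CoresThree_tbl : m21CoresThreeCert.tblOK = true := by decide +kernel

theorem m21CoresThree_coc : m21CoresThreeCert.cocOK = true := by decide +kernel

theorem m21CoresThree_tabx : m21CoresThreeCert.tabOK permMulD m21CoresThreeCert.x m21CoresThreeCert.px m21CoresThreeCert.ux = true := by decide +kernel

theorem m21CoresThree_taby : m21CoresThreeCert.tabOK permMulD m21CoresThreeCert.y m21CoresThreeCert.py m21CoresThreeCert.uy = true := by decide +kernel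

theorem m21CoresThree_value : m21CoresThreeCert.valOK permMulD = true := by decide +kernel

theorem m21CoresThree_checked : m21CoresThreeCert.Checked permMulD permOne (pairKey m21CoresThreePairs) :=
  ⟨m21CoresThree_reps, m21CoresThree_ranks, m21CoresThree_keys, m21CoresThree_sub, m21CoresThree_tbl, m21CoresThree_coc, m21CoresThree_tabx, m21CoresThree_taby, m21CoresThree_value⟩

end Cfsg.Agent.SchurBound
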