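import Cfsg.Agent.SchurBound.Main
import Cfsg.Agent.SchurBound.Rank
import Cfsg.Agent.SchurBound.CoresPair
import Cfsg.Agent.SchurBound.M21Bounds
import Cfsg.Agent.SchurBound.M21CoresCheck
import Cfsg.Agent.Leech.Plane21
import Cfsg.Agent.Linear.Transvection

set_option autoImplicit false
set_option maxRecDepth 20000
set_option maxHeartbeats 800000

/-!
The Schur multiplier of the stabiliser of three points in M24, that is, of PSL(3, 4).
-/

namespace Cfsg.Agent.SchurBound

open Cfsg Cfsg.Agent.Golay Cfsg.Agent.SchurCert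
open scoped commutatorElement

/-- The stabiliser of three points. -/
abbrev stabThree : Subgroup (Equiv.Perm GolayPt) := chainStab M24 3

theorem encD_eq (H : Subgroup (Equiv.Perm GolayPt)) (g : H) :
    (permCodeD H).enc g = (permCode H).enc g := rfl

/-- All the generators used. -/
def m21All : List (ℕ × ℕ) :=
  m21TwoRankGens ++ m21TwoRankFus ++ m21TwoExpGens ++ m21TwoExpFus ++ m21ThreeRankGens ++ m21ThreeRankFus ++ m21ThreeExpGens ++ m21ThreeExpFus ++ m21CoresTwoGens ++ m21CoresThreeGens

theorem m21All_tested : m21All.all validPair = true ∧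
    ∀ x ∈ m21All, PreservesRows (codeFun x.1) ∧
      ∀ j < 3, codeFun x.1 (basePt j) = basePt j := by
  decide +kernel

theorem m21_enc (L : List (ℕ × ℕ)) (hL : ∀ x ∈ L, x ∈ m21All) (i : ℕ) :
    (permCodeD stabThree).enc (elemAt stabThree L i) = (L.map Prod.fst).getD i permOne :=
  (encD_eq _ _).trans <| enc_elemAt (List.all_eq_true.2 fun x hx => List.all_eq_true.1 m21All_tested.1 x (hL x hx))
    (fun x hx => by
      have hv := List.all_eq_true.1 m21All_tested.1 x (hL x hx)
      have h := m21All_tested.2 x (hL x hx)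
      exact mem_chainStab.2 ⟨permOfPair_mem_M24 hv h.1,
        fun j hj => (permOfPair_apply hv _).trans (h.2 j hj)⟩) i

theorem card_M21 : Nat.card stabThree = 20160 :=
  (card_chainStab gen3_le le_rfl).2.2.2.1

theorem applies_m21 (B : BCert) (p N m : ℕ) (gl fl : List (ℕ × ℕ))
    (hg : B.D.gens = gl.map Prod.fst) (hf : B.D.gs = fl.map Prod.fst)
    (hgm : ∀ x ∈ gl, x ∈ m21All) (hfm : ∀ x ∈ fl, x ∈ m21All)
    (hp : p.Prime) (hP : B.D.P.p = p) (hn : B.D.P.p ^ B.D.P.n = N) (hm : 20160 = N * m)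
    (hpm : ¬ p ∣ m) (hchk : B.check permMulD permOne = true) :
    Applies (permCodeD stabThree) B p (elemAt stabThree gl) (elemAt stabThree fl) := by
  have hgen : ∀ i < B.D.P.n, (permCodeD stabThree).enc (elemAt stabThree gl i) =
      B.D.gens.getD i (permCodeD stabThree).one := fun i _ => hg ▸ m21_enc gl hgm i
  have hc := hchk
  simp only [BCert.check, Bool.and_eq_true] at hc
  obtain ⟨-, hcard⟩ := card_initGroup_of_groupOK (permCodeD stabThree) B.D (hP.symm ▸ hp) _ hgen
    hc.1.1.1 hc.1.1.2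
  refine ⟨hp, hP, hgen, fun i => hf ▸ m21_enc fl hfm i, ?_, hchk⟩
  rwa [index_initGroup card_M21 (hcard.trans hn) hm]

theorem m21_two_part : (Nat.card (CentralExt.schurMult stabThree)).factorization 2 ≤ 2 * 2 :=
  factorization_schurMult_le_rank (permCodeD stabThree)
    (applies_m21 m21TwoRankCert 2 64 315 m21TwoRankGens m21TwoRankFus rfl rfl
      (fun x hx => by simp [m21All, hx]) (fun x hx => by simp [m21All, hx]) Nat.prime_two rfl rfl
      (by norm_num) (by norm_num) m21TwoRank_check)
    (applies_m21 m21TwoExpCert 2 64 315 m21TwoExpGens m21TwoExpFus rfl rfl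
      (fun x hx => by simp [m21All, hx]) (fun x hx => by simp [m21All, hx]) Nat.prime_two rfl rfl
      (by norm_num) (by norm_num) m21TwoExp_check)
    rfl rfl (le_of_eq rfl) rfl rfl rfl

theorem m21_three_part : (Nat.card (CentralExt.schurMult stabThree)).factorization 3 ≤ 1 :=
  factorization_schurMult_le (permCodeD stabThree)
    (applies_m21 m21ThreeRankCert 3 9 2240 m21ThreeRankGens m21ThreeRankFus rfl rfl
      (fun x hx => by simp [m21All, hx]) (fun x hx => by simp [m21All, hx]) Nat.prime_three rfl rfl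
      (by norm_num) (by norm_num) m21ThreeRank_check)
    (applies_m21 m21ThreeExpCert 3 9 2240 m21ThreeExpGens m21ThreeExpFus rfl rfl
      (fun x hx => by simp [m21All, hx]) (fun x hx => by simp [m21All, hx]) Nat.prime_three rfl rfl
      (by norm_num) (by norm_num) m21ThreeExp_check)
    _ rfl rfl rfl rfl rfl rfl

theorem m21_perfect : commutator stabThree = ⊤ :=
  commutator_eq_top_of_equiv Plane21.equivChainStab (Cfsg.Agent.Linear.commutator_PSL_eq_top (by norm_num))

theorem m21_key (F : List (ℕ × ℕ)) (D : LCert) (hF : ∀ p ∈ F, p.1 < 24 ∧ p.2 < 24)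
    (hU : ∀ k < D.N, (F.map fun p => (getC (D.Uc k) p.1, getC (D.Uc k) p.2)).Perm F)
    (g : stabThree) (k : ℕ) (hk : k < D.N) :
    pairKey F ((permCodeD stabThree).mul ((permCodeD stabThree).enc g) (D.Uc k)) =
      pairKey F ((permCodeD stabThree).enc g) := by
  show pairKey F (permMulD _ _) = _
  rw [permMulD_eq]
  exact pairKey_mul _ _ _ hF (hU k hk)

theorem m21_gens (D : LCert) (L : List (ℕ × ℕ)) (h : D.gens = L.map Prod.fst)
    (hL : ∀ x ∈ L, x ∈ m21All) (i : ℕ) (_ : i < D.gens.length) :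
    ∃ g : stabThree, (permCodeD stabThree).enc g = D.gens.getD i (permCodeD stabThree).one :=
  ⟨elemAt stabThree L i, h ▸ m21_enc L hL i⟩

theorem m21CoresTwo_pairs : (∀ p ∈ m21CoresTwoPairs, p.1 < 24 ∧ p.2 < 24) ∧
    ∀ k < 64, (m21CoresTwoPairs.map fun p =>
      (getC (m21CoresTwoCert.Uc k) p.1, getC (m21CoresTwoCert.Uc k) p.2)).Perm m21CoresTwoPairs := by
  decide +kernel

theorem m21CoresThree_pairs : (∀ p ∈ m21CoresThreePairs, p.1 < 24 ∧ p.2 < 24) ∧
    ∀ k < 9, (m21CoresThreePairs.map fun p =>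
      (getC (m21CoresThreeCert.Uc k) p.1, getC (m21CoresThreeCert.Uc k) p.2)).Perm
        m21CoresThreePairs := by
  decide +kernel

theorem m21CoresTwo_gens : m21CoresTwoCert.gens = m21CoresTwoGens.map Prod.fst := rfl

theorem m21CoresThree_gens : m21CoresThreeCert.gens = m21CoresThreeGens.map Prod.fst := rfl

theorem m21_three_stem : ∃ (W : Type) (_ : Group W) (_ : Finite W) (σ : W →* stabThree),
    Cfsg.IsStemExtension σ ∧ Nonempty (σ.ker ≃* Multiplicative (ZMod m21CoresThreeCert.n)) := by
  have : NeZero m21CoresThreeCert.n := ⟨Nat.succ_ne_zero 2⟩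
  exact exists_stem_of_lcert (permCodeD stabThree) m21_perfect m21CoresThreeCert
    (pairKey m21CoresThreePairs)
    (m21_key m21CoresThreePairs m21CoresThreeCert m21CoresThree_pairs.1 m21CoresThree_pairs.2)
    (m21_gens m21CoresThreeCert m21CoresThreeGens m21CoresThree_gens (fun x hx => by simp [m21All, hx]))
    (card_M21.trans (show (20160 : ℕ) = 2240 * 9 by norm_num))
    m21CoresThree_checked

theorem m21_two_stem : ∃ (W : Type) (_ : Group W) (_ : Finite W) (σ : W →* stabThree),
    Cfsg.IsStemExtension σ ∧ Nonempty (σ.ker ≃* Multiplicative (ZMod 4 × ZMod 4)) := by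
  have : NeZero m21CoresTwoCert.n := ⟨Nat.succ_ne_zero 3⟩
  exact exists_stem_of_lcert_pair (permCodeD stabThree) m21_perfect m21CoresTwoCert m21CoresTwoSnd
    (pairKey m21CoresTwoPairs)
    rfl rfl
    (m21_key m21CoresTwoPairs m21CoresTwoCert m21CoresTwo_pairs.1 m21CoresTwo_pairs.2)
    (m21_gens m21CoresTwoCert m21CoresTwoGens m21CoresTwo_gens (fun x hx => by simp [m21All, hx]))
    (card_M21.trans (show (20160 : ℕ) = 315 * 64 by norm_num))
    m21CoresTwo_checked m21CoresTwoSnd_coc m21CoresTwoSnd_tabx m21CoresTwoSnd_taby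
    m21CoresTwoSnd_value m21CoresTwoSnd_zero m21CoresTwoSnd_zero_fst

end Cfsg.Agent.SchurBound
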