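import Cfsg.Agent.SchurBound.M21

set_option autoImplicit false

/-!
The multiplier of PSL(3, 4) is a product of cyclic groups of orders three, four and four.
-/

namespace Cfsg.Agent.SchurBound

open Cfsg Cfsg.Agent.Golay Cfsg.Agent.SchurCert

theorem card_schurMult_M21 : Nat.card (CentralExt.schurMult stabThree) = 48 := by
  have hpos : Nat.card (CentralExt.schurMult stabThree) ≠ 0 := Nat.card_pos.ne'
  have h16 : 16 ∣ Nat.card (CentralExt.schurMult stabThree) := by
    obtain ⟨W, _, _, σ, hσ, ⟨e⟩⟩ := m21_two_stem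
    have h := CentralExt.card_ker_dvd_schurMult hσ
    rwa [Nat.card_congr e.toEquiv, Nat.card_congr Multiplicative.toAdd, Nat.card_prod,
      Nat.card_zmod] at h
  have h3 : 3 ∣ Nat.card (CentralExt.schurMult stabThree) := by
    obtain ⟨W, _, _, σ, hσ, ⟨e⟩⟩ := m21_three_stem
    have h := CentralExt.card_ker_dvd_schurMult hσ
    rwa [Nat.card_congr e.toEquiv, Nat.card_congr Multiplicative.toAdd, Nat.card_zmod] at h
  refine Nat.dvd_antisymm ?_
    (Nat.Coprime.mul_dvd_of_dvd_of_dvd (by norm_num : Nat.Coprime 16 3) h16 h3)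
  rw [← Nat.factorization_le_iff_dvd hpos (by norm_num)]
  intro p
  by_cases hp : p.Prime
  swap
  · simp [Nat.factorization_eq_zero_of_not_prime _ hp]
  rcases eq_or_ne p 2 with rfl | hp2
  · refine m21_two_part.trans ?_
    exact (Nat.prime_two.pow_dvd_iff_le_factorization (by norm_num)).1 (by norm_num)
  rcases eq_or_ne p 3 with rfl | hp3
  · refine m21_three_part.trans ?_
    exact (Nat.prime_three.pow_dvd_iff_le_factorization (by norm_num)).1 (by norm_num)
  have : Fact p.Prime := ⟨hp⟩
  rw [Nat.factorization_eq_zero_of_not_dvd (not_dvd_schurMult_of_sq_not_dvd p fun hsq => ?_)]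
  · exact Nat.zero_le _
  rw [card_M21] at hsq
  have hle : p ^ 2 ≤ 20160 := Nat.le_of_dvd (by norm_num) hsq
  have hlt : p < 143 := by nlinarith
  have key : ∀ q < 143, q ^ 2 ∣ 20160 → q % 2 = 0 ∨ q % 3 = 0 ∨ q = 1 := by decide +kernel
  rcases key p hlt hsq with h | h | h
  · exact hp2 ((Nat.prime_dvd_prime_iff_eq Nat.prime_two hp).1 (Nat.dvd_of_mod_eq_zero h)).symm
  · exact hp3 ((Nat.prime_dvd_prime_iff_eq Nat.prime_three hp).1 (Nat.dvd_of_mod_eq_zero h)).symm
  · exact hp.ne_one h

theorem m21_hasSchurMultiplier :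
    Cfsg.HasSchurMultiplier stabThree (Multiplicative (ZMod 3 × ZMod 4 × ZMod 4)) := by
  obtain ⟨W₂, _, _, σ₂, hσ₂, ⟨e₂⟩⟩ := m21_two_stem
  obtain ⟨W₃, _, _, σ₃, hσ₃, ⟨e₃⟩⟩ := m21_three_stem
  have hM := CentralExt.hasSchurMultiplier_schurMult (G := stabThree)
  obtain ⟨π₂, hπ₂⟩ := CentralExt.exists_surjective_of_hasSchurMultiplier hM hσ₂
  obtain ⟨π₃, hπ₃⟩ := CentralExt.exists_surjective_of_hasSchurMultiplier hM hσ₃
  let a : CentralExt.schurMult stabThree →* Multiplicative (ZMod 4 × ZMod 4) :=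
    e₂.toMonoidHom.comp π₂
  let b : CentralExt.schurMult stabThree →* Multiplicative (ZMod 3) := e₃.toMonoidHom.comp π₃
  have ha : Function.Surjective a := e₂.surjective.comp hπ₂
  have hb : Function.Surjective b := e₃.surjective.comp hπ₃
  let f : CentralExt.schurMult stabThree →*
      Multiplicative (ZMod 3) × Multiplicative (ZMod 4 × ZMod 4) := b.prod a
  have hf : Function.Surjective f := by
    rw [← MonoidHom.range_eq_top]
    apply Subgroup.eq_top_of_card_eq
    have hc : Nat.card (Multiplicative (ZMod 3) × Multiplicative (ZMod 4 × ZMod 4)) = 48 := by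
      simp [Nat.card_prod, Nat.card_congr Multiplicative.toAdd]
    refine Nat.dvd_antisymm (Subgroup.card_subgroup_dvd_card _) ?_
    rw [hc]
    refine Nat.Coprime.mul_dvd_of_dvd_of_dvd (by norm_num : Nat.Coprime 3 16) ?_ ?_
    · have h := Subgroup.card_dvd_of_surjective
        ((MonoidHom.fst _ _).comp f.range.subtype) (fun y => by
          obtain ⟨x, rfl⟩ := hb y
          exact ⟨⟨f x, x, rfl⟩, rfl⟩)
      simpa [Nat.card_congr Multiplicative.toAdd] using h
    · have h := Subgroup.card_dvd_of_surjective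
        ((MonoidHom.snd _ _).comp f.range.subtype) (fun y => by
          obtain ⟨x, rfl⟩ := ha y
          exact ⟨⟨f x, x, rfl⟩, rfl⟩)
      simpa [Nat.card_prod, Nat.card_congr Multiplicative.toAdd] using h
  let g : CentralExt.schurMult stabThree →* Multiplicative (ZMod 3 × ZMod 4 × ZMod 4) :=
    (MulEquiv.prodMultiplicative (ZMod 3) (ZMod 4 × ZMod 4)).symm.toMonoidHom.comp f
  have hg : Function.Bijective g :=
    (Nat.bijective_iff_surjective_and_card _).2
      ⟨(MulEquiv.prodMultiplicative (ZMod 3) (ZMod 4 × ZMod 4)).symm.surjective.comp hf, by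
        rw [card_schurMult_M21]
        simp [Nat.card_prod, Nat.card_congr Multiplicative.toAdd]⟩
  exact CentralExt.hasSchurMultiplier_iff.2 ⟨(MulEquiv.ofBijective g hg).symm⟩

theorem psl_three_four_multiplier {F : Type*} [Field F] [Fintype F] (hF : Fintype.card F = 4) :
    Cfsg.HasSchurMultiplier (Matrix.ProjectiveSpecialLinearGroup (Fin 3) F)
      (Multiplicative (ZMod 3 × ZMod 4 × ZMod 4)) := by
  have : Finite F := Finite.of_fintype F
  let φ : F ≃+* Plane21.F4 := FiniteField.ringEquivOfCardEq (by rw [hF]; rfl)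
  exact CentralExt.hasSchurMultiplier_congr
    (((Plane21.pslCongr φ).trans Plane21.equivChainStab).symm) m21_hasSchurMultiplier

end Cfsg.Agent.SchurBound
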